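/-
In a permutation group whose order is the size of a chain of orbits, the roots of the chain form a base.
Main results: `eq_one_of_fix_roots`, `closed_of_base`.
-/
import Cfsg.Agent.Lib.CosetEnum.Order

set_option autoImplicit false

namespace Cfsg.Agent.ONReal

open Cfsg.Agent.CosetEnum
open Cfsg.Agent.CosetEnum.Data

variable {D : Data}

theorem eq_one_of_fix_roots (hp : D.PermFacts) : ∀ (l : List OrbitData) (roots : List ℕ),
    Setup.chainOK D l roots = true → (∀ b ∈ roots, b < D.n) →
    ∀ (P : Subgroup (Equiv.Perm (Fin D.n))),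
    (∀ g : Equiv.Perm (Fin D.n), (∃ w, (∀ a ∈ w, a < D.k) ∧ g = ev (Setup.perm D hp) w) →
      (∀ b ∈ roots, ∀ i : Fin D.n, (i : ℕ) = b → g i = i) → g ∈ P) →
    0 < Setup.chainSize l → Nat.card P ≤ Setup.chainSize l →
    ∀ g ∈ P, (∀ O ∈ l, ∀ i : Fin D.n, (i : ℕ) = O.root → g i = i) → g = 1
  | [], _, _, _, P, _, _, hle => fun g hg _ => by
    by_contra hne
    have h2 : 2 ≤ Nat.card P := by
      haveI : Nontrivial P := ⟨⟨⟨g, hg⟩, 1, fun h => hne (congrArg Subtype.val h)⟩⟩
      exact Finite.one_lt_card
    simp only [Setup.chainSize] at hle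
    omega
  | O :: l, roots, h, hroots, P, hP, hpos, hle => fun g hg hfixg => by
    change (D.reachOK O && ((O.words.all fun w => roots.all fun b => Nat.beq (lane D.B (D.trace w) b) b) &&
      Setup.chainOK D l (O.root :: roots))) = true at h
    simp only [Bool.and_eq_true, List.all_eq_true, beq_iff] at h
    obtain ⟨hreach, hfix, hrest⟩ := h
    obtain ⟨hrootmem, hcard, hind⟩ := orbit_reach hp hreach
    have hwk : ∀ w ∈ O.words, ∀ a ∈ w, a < D.k := by
      intro w hw
      obtain ⟨j, hj, rfl⟩ := List.getElem_of_mem hw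
      unfold Data.reachOK at hreach
      simp only [Bool.and_eq_true, beq_iff, List.all_eq_true] at hreach
      have := hreach.2.2.2.1 (O.words[j], O.sels[j]'(by have := hreach.1; omega))
        (List.mem_of_getElem (i := j) (h := by simp; have := hreach.1; omega) (by simp))
      unfold Data.orbSelOK at this
      simp only [Bool.and_eq_true, List.all_eq_true, Nat.blt_eq] at this
      exact this.1
    have hwP : ∀ w ∈ O.words, ev (Setup.perm D hp) w ∈ P := fun w hw =>
      hP _ ⟨w, hwk w hw, rfl⟩ fun b hb i hi => by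
        have := hfix w hw b hb
        rw [trace_eq hp w (hwk w hw), lane_pack hp.hB
          (fun j hj => self_lt_two_pow_of_lt (by have := hp.hlg; omega) (tw_lt hp w (hwk w hw) j hj))
          (lt_of_lt_of_le (hroots b hb) hp.hnN)] at this
        exact Fin.ext (by rw [Setup.ev_perm hp w (hwk w hw), hi, this])
    set r : Fin D.n := ⟨O.root, hrootmem.1⟩
    have horbit : ∀ i ∈ Data.maskSet D O, ∃ x ∈ MulAction.orbit P r, ((x : Fin D.n) : ℕ) = i := by
      refine hind ⟨r, MulAction.mem_orbit_self r, rfl⟩ fun w hw i hi => ?_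
      rintro ⟨x, hx, rfl⟩
      refine ⟨ev (Setup.perm D hp) w x, ?_, Setup.ev_perm hp w (hwk w hw) x⟩
      exact MulAction.mem_orbit_of_mem_orbit (⟨ev (Setup.perm D hp) w, hwP w hw⟩ : P) hx
    have horb : O.size ≤ Nat.card (MulAction.orbit P r) := by
      have hsub : Data.maskSet D O ⊆ (fun x : Fin D.n => (x : ℕ)) '' MulAction.orbit P r := fun i hi => by
        obtain ⟨x, hx, e⟩ := horbit i hi
        exact ⟨x, hx, e⟩
      rw [← hcard, Nat.card_coe_set_eq, ← Set.ncard_image_of_injective _ Fin.val_injective]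
      exact Set.ncard_le_ncard hsub (Set.toFinite _)
    let Q : Subgroup (Equiv.Perm (Fin D.n)) := P ⊓ MulAction.stabilizer (Equiv.Perm (Fin D.n)) r
    have hQ : Nat.card Q ≤ Nat.card (MulAction.stabilizer P r) := by
      refine Nat.card_le_card_of_injective (fun q => ⟨⟨q.1, q.2.1⟩, q.2.2⟩) fun q q' h => ?_
      exact Subtype.ext (congrArg (fun x : MulAction.stabilizer P r => x.1.1) h)
    have hpos' : 0 < O.size * Setup.chainSize l := hpos
    have hmul : Nat.card (MulAction.orbit P r) * Nat.card (MulAction.stabilizer P r) ≤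
        O.size * Setup.chainSize l := by
      rw [← Nat.card_prod, Nat.card_congr (MulAction.orbitProdStabilizerEquivGroup P r)]
      exact hle
    have hQle : Nat.card Q ≤ Setup.chainSize l :=
      Nat.le_of_mul_le_mul_left ((Nat.mul_le_mul horb hQ).trans hmul) (Nat.pos_of_mul_pos_right hpos')
    refine eq_one_of_fix_roots hp l (O.root :: roots) hrest
      (fun b hb => by rcases List.mem_cons.mp hb with rfl | hb; exacts [hrootmem.1, hroots b hb]) Q
      (fun g hg hb => ⟨hP g hg fun b hb' i hi => hb b (List.mem_cons_of_mem _ hb') i hi,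
        hb O.root List.mem_cons_self r rfl⟩) (Nat.pos_of_mul_pos_left hpos') hQle g
      ⟨hg, hfixg O List.mem_cons_self r rfl⟩ (fun O' hO' => hfixg O' (List.mem_cons_of_mem _ hO'))

/-- Check that a word fixes all roots of a chain. -/
noncomputable def baseFixed (D : Data) (l : List OrbitData) (w : List ℕ) : Bool :=
  List.all w (fun a => Nat.blt a D.k) && (l.map OrbitData.root).all fun b => Nat.beq (D.tw w b) b

/-- A word fixing the roots of an exact chain acts trivially. -/
theorem ev_eq_one_of_base {Gen : Type} [DecidableEq Gen] {S : Setup Gen} (hgens : ∀ x, x ∈ S.gens)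
    (hl : S.lettersOK D = true) (hp : D.PermFacts) (hr : S.relsOK D = true) (l : List OrbitData)
    (h : Setup.chainOK D l [] = true) (hcard : Nat.card (Setup.hom hgens hl hp hr).range ≤ Setup.chainSize l)
    (hpos : 0 < Setup.chainSize l) {w : List ℕ} (hw : baseFixed D l w = true) :
    ev (Setup.perm D hp) w = 1 := by
  simp only [baseFixed, Bool.and_eq_true, List.all_eq_true, Nat.blt_eq, List.mem_map, beq_iff,
    forall_exists_index, and_imp, forall_apply_eq_imp_iff₂] at hw
  refine eq_one_of_fix_roots hp l [] h (fun _ hb => by simp at hb) _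
    (fun g ⟨v, hv, e⟩ _ => e ▸ Setup.ev_perm_mem_range hgens hl hp hr v hv) hpos hcard _
    (Setup.ev_perm_mem_range hgens hl hp hr w hw.1) fun O hO i hi => ?_
  exact Fin.ext (by rw [Setup.ev_perm hp w hw.1, hi, hw.2 O hO])

end Cfsg.Agent.ONReal
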