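/-
Two-generator presentations used for the J1 and M11 subgroups of ON, with upper bounds for their orders
and tools to map them into other groups.
Main results: `setupJ`, `setupM`, `cardJ_le`, `cardM_le`, `exists_hom_of_words`, `isSimple_range_of_surj`.
-/
import Cfsg.Agent.Lib.CosetEnum.Index
import Cfsg.Agent.Lib.ONReal.TableJ
import Cfsg.Agent.Lib.ONReal.TableM

set_option autoImplicit false

namespace Cfsg.Agent.ONReal

open Cfsg.Agent.CosetEnum
open Cfsg.Agent.CosetEnum.Data

/-- The two generators. -/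
inductive Gen
  | a
  | b
deriving DecidableEq

/-- Decoding of the letters `a, a⁻¹, b, b⁻¹`. -/
def dec : ℕ → Gen × Bool
  | 0 => (.a, true)
  | 1 => (.a, false)
  | 2 => (.b, true)
  | _ => (.b, false)

/-- The free word of a list of letters in the order of application. -/
def relWord (w : List ℕ) : FreeGroup Gen := FreeGroup.mk (w.reverse.map dec)

/-- The letters. -/
def pLetters : Data := letterData 4 [1, 0, 3, 2]

/-- A setup with the given relators. -/
def mkSetup (rs : List (List ℕ)) : Setup Gen where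
  edges := []
  extra := rs.map relWord
  gens := [.a, .b]
  pos := [0, 2]
  lt := [(.a, true), (.a, false), (.b, true), (.b, false)]

theorem mkSetup_gens (rs : List (List ℕ)) : ∀ x, x ∈ (mkSetup rs).gens := by
  intro x; cases x <;> simp [mkSetup]

/-- Relators of the presentation used for J1. -/
def relsJ : List (List ℕ) :=
  [[0, 0], [2, 2, 2], Setup.wpow [0, 2] 7, Setup.wpow ([0, 2] ++ Setup.wpow [0, 2, 0, 3] 3) 5,
    Setup.wpow ([0, 2] ++ Setup.wpow [0, 2, 0, 3] 6 ++ [0, 2, 0, 2, 0, 3, 0, 3]) 2]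

/-- Relators of the presentation used for M11. -/
def relsM : List (List ℕ) :=
  [[0, 0], [2, 2, 2, 2], Setup.wpow [0, 2] 11, Setup.wpow [0, 2, 2] 6,
    [0, 2, 0, 2, 0, 3, 0, 2, 0, 2, 2, 0, 3, 0, 2, 0, 3, 0, 3], Setup.wpow [0, 2, 0, 3, 0, 2, 2] 3]

/-- The presentation used for J1. -/
def setupJ : Setup Gen := mkSetup relsJ

/-- The presentation used for M11. -/
def setupM : Setup Gen := mkSetup relsM

theorem setupJ_letters : setupJ.lettersOK pLetters = true := by decide +kernel

theorem setupM_letters : setupM.lettersOK pLetters = true := by decide +kernel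

theorem bound_cyclic {S : Setup Gen} (hgens : ∀ x, x ∈ S.gens) (hl : S.lettersOK pLetters = true)
    {h r : FreeGroup Gen} {m : ℕ} (hm : 0 < m) (hr : r ∈ S.allRels)
    (hw : S.wl pLetters r = Setup.wpow (S.wl pLetters h) m) :
    Nat.card (S.closureOf [h]) ≤ m ∧ Nat.card (S.closureOf [h]) ≠ 0 := by
  set g := PresentedGroup.mk S.rels h with hg
  have hp : g ^ m = 1 := by
    rw [hg, Setup.mk_eq_ev hgens hl, ← Setup.ev_wpow, ← hw, ← Setup.mk_eq_ev hgens hl]
    exact PresentedGroup.one_of_mem (S.allRels_mem hr)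
  have e : S.closureOf [h] = Subgroup.zpowers g := by
    rw [Setup.closureOf, Subgroup.zpowers_eq_closure]
    congr 1
    ext x
    simp [hg, eq_comm]
  rw [e, Nat.card_zpowers]
  exact ⟨orderOf_le_of_pow_eq_one hm hp, (orderOf_pos_iff.mpr (isOfFinOrder_iff_pow_eq_one.mpr ⟨m, hm, hp⟩)).ne'⟩

theorem card_le_of_table {S : Setup Gen} (hgens : ∀ x, x ∈ S.gens) (hl : S.lettersOK pLetters = true)
    (D : Data) (hc : D.check = true) (hemb : Setup.embOK pLetters D [0, 1, 2, 3] = true)
    (h : FreeGroup Gen)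
    (hsrc : S.embSrcOK pLetters D [0, 1, 2, 3] [h] [] [] = true)
    (hin : S.wordsIn pLetters [0, 1, 2, 3] [h] = true)
    {m : ℕ} (hK : Nat.card (S.closureOf [h]) ≤ m ∧ Nat.card (S.closureOf [h]) ≠ 0) :
    Nat.card S.G ≤ D.n * m ∧ Nat.card S.G ≠ 0 :=
  Setup.bound_univ hgens hl (Setup.card_step hgens hl D hc [0, 1, 2, 3] hemb [h] [] [] hsrc hin
    (by simp) (by simp) hK) (by decide +kernel)

theorem cardJ_le : Nat.card setupJ.G ≤ 175560 ∧ Nat.card setupJ.G ≠ 0 := by
  have h := card_le_of_table (S := setupJ) (mkSetup_gens _) setupJ_letters onJTab onJTab_check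
    (by decide +kernel) (relWord [0, 2]) (by decide +kernel) (by decide +kernel)
    (bound_cyclic (mkSetup_gens _) setupJ_letters (r := relWord (Setup.wpow [0, 2] 7)) (m := 7) (by norm_num)
      (by decide +kernel) (by decide +kernel))
  rwa [show onJTab.n * 7 = 175560 by decide +kernel] at h

theorem cardM_le : Nat.card setupM.G ≤ 7920 ∧ Nat.card setupM.G ≠ 0 := by
  have h := card_le_of_table (S := setupM) (mkSetup_gens _) setupM_letters onMTab onMTab_check
    (by decide +kernel) (relWord [0, 2]) (by decide +kernel) (by decide +kernel)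
    (bound_cyclic (mkSetup_gens _) setupM_letters (r := relWord (Setup.wpow [0, 2] 11)) (m := 11) (by norm_num)
      (by decide +kernel) (by decide +kernel))
  rwa [show onMTab.n * 11 = 7920 by decide +kernel] at h

theorem ev_flatMap {M : Type*} [Group M] (f : ℕ → M) (g : ℕ → List ℕ) :
    ∀ w : List ℕ, ev f (w.flatMap g) = ev (fun a => ev f (g a)) w
  | [] => rfl
  | a :: v => by rw [List.flatMap_cons, ev_append, ev_flatMap f g v]; rfl

/-- A homomorphism out of the presented group from the values of the letters. -/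
theorem exists_hom_of_words {S : Setup Gen} (hgens : ∀ x, x ∈ S.gens) (hl : S.lettersOK pLetters = true)
    {M : Type*} [Group M] (em : ℕ → M) (hinv : ∀ a < 4, em (pLetters.invl a) * em a = 1)
    (hrel : ∀ r ∈ S.allRels, ev em (S.wl pLetters r) = 1) :
    ∃ f : S.G →* M, ∀ a < 4, f (S.el a) = em a := by
  obtain ⟨h1, h2⟩ := Setup.letters_spec hgens hl
  have hi : ∀ x, em (pLetters.invl (S.sg x)) = (em (S.sg x))⁻¹ := fun x =>
    eq_inv_of_mul_eq_one_left (hinv _ (h1 x).1)
  have hR : ∀ r ∈ S.rels, FreeGroup.lift (fun x => em (S.sg x)) r = 1 := fun r hr => by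
    rw [Setup.lift_eq_ev (S := S) (D := pLetters) _ em (fun _ => rfl) hi]
    exact hrel r (S.mem_allRels hr)
  refine ⟨PresentedGroup.toGroup hR, fun a ha => ?_⟩
  obtain ⟨x, rfl | rfl⟩ := h2 a ha
  · rw [(h1 x).2.1, PresentedGroup.toGroup.of]
  · rw [(h1 x).2.2.1, map_inv, PresentedGroup.toGroup.of, hi]

/-- A group of order at most that of a simple quotient is simple, so its non-trivial images are copies. -/
theorem isSimple_range_of_surj {P Q M : Type*} [Group P] [Group Q] [Group M] [IsSimpleGroup Q] {c : ℕ}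
    (hP : Nat.card P ≤ c ∧ Nat.card P ≠ 0) (hQ : Nat.card Q = c) (π : P →* Q) (hπ : Function.Surjective π)
    (f : P →* M) (x : P) (hx : f x ≠ 1) : IsSimpleGroup f.range ∧ Nat.card f.range = c := by
  haveI : Finite P := Nat.finite_of_card_ne_zero hP.2
  have hle := Nat.card_le_card_of_surjective π hπ
  have hcard : Nat.card P = c := le_antisymm hP.1 (hQ ▸ hle)
  have hbij : Function.Bijective π :=
    (Nat.bijective_iff_surjective_and_card _).mpr ⟨hπ, hcard.trans hQ.symm⟩
  haveI : IsSimpleGroup P := (MulEquiv.ofBijective π hbij).isSimpleGroup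
  have hinj : Function.Injective f := by
    rw [← MonoidHom.ker_eq_bot_iff]
    rcases IsSimpleGroup.eq_bot_or_eq_top_of_normal f.ker inferInstance with h | h
    · exact h
    · exact absurd (MonoidHom.mem_ker.mp (h ▸ Subgroup.mem_top x)) hx
  have e := MonoidHom.ofInjective hinj
  exact ⟨e.symm.isSimpleGroup, by rw [← Nat.card_congr e.toEquiv, hcard]⟩

end Cfsg.Agent.ONReal
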