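/-
J1 is a quotient of the presentation `setupJ`.
Main result: `exists_surjJ`.
-/
import Cfsg.Agent.Lib.ONReal.Pres
import Cfsg.Agent.Lib.JankoOne.Aut

set_option autoImplicit false

namespace Cfsg.Agent.ONReal

open Cfsg.Agent.CosetEnum
open Cfsg.Agent.CosetEnum.Data
open Cfsg.Agent.JankoOne (mulC idC trC okC gl canon canon_mulC canon_of_ok toM toM_mulC toM_idC val_gl xC yC gl_xC gl_yC)

/-- An involution of J1. -/
def jA : List ℕ := [0x800040009000000060001000a,0x30003000a0001000900080001,0x6000300070003000100090006,0x2000400090000000300010000,0x90007000000090007000a0009,0x1000000070004000300030004,0x2000100090002000600030008]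

/-- An element of order 3 of J1. -/
def jB : List ℕ := [0x3000200020002000a00050003,0x400060002000300050008000a,0x4000700080007000100090007,0x4000a0003000300080000000a,0x9000300060003000900070000,0x1000600010009000100090003,0x7000800090007000900030008]

/-- Codes of the letters. -/
def codeJ : ℕ → List ℕ
  | 0 => jA
  | 1 => trC jA
  | 2 => jB
  | _ => trC jB

/-- The code of a word in coded matrices. -/
def cev (f : ℕ → List ℕ) : List ℕ → List ℕ
  | [] => idC
  | a :: v => mulC (cev f v) (f a)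

theorem cev_spec (f : ℕ → List ℕ) : ∀ w : List ℕ, (∀ a ∈ w, okC (f a) = true) →
    canon (cev f w) = true ∧
      ((ev (fun a => gl (f a)) w : GL (Fin 7) (ZMod 11)) : Matrix (Fin 7) (Fin 7) (ZMod 11)) = toM (cev f w)
  | [], _ => ⟨(show canon idC = true by decide +kernel), by simp [ev, cev, toM_idC]⟩
  | a :: v, h => by
    obtain ⟨h1, h2⟩ := cev_spec f v fun b hb => h b (List.mem_cons_of_mem a hb)
    have ha := h a List.mem_cons_self
    refine ⟨canon_mulC _ _ h1 (canon_of_ok ha), ?_⟩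
    show ((ev (fun a => gl (f a)) v * gl (f a) : GL (Fin 7) (ZMod 11)) : Matrix (Fin 7) (Fin 7) (ZMod 11)) = _
    rw [Units.val_mul, h2, val_gl ha, ← toM_mulC h1 (canon_of_ok ha)]
    rfl

/-- Equality of the value of a word with a coded matrix, by computation. -/
theorem ev_eq_gl (f : ℕ → List ℕ) {w : List ℕ} {T : List ℕ}
    (h : (w.all (fun a => okC (f a)) && okC T && cev f w == T) = true) : ev (fun a => gl (f a)) w = gl T := by
  simp only [Bool.and_eq_true, List.all_eq_true, beq_iff_eq] at h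
  obtain ⟨⟨hw, hT⟩, he⟩ := h
  exact Units.ext (by rw [(cev_spec f w hw).2, he, val_gl hT])

/-- The generators of the ambient matrix group. -/
def genXY : ℕ → List ℕ
  | 0 => xC
  | _ => yC

theorem gl_genXY_mem (a : ℕ) : gl (genXY a) ∈ Cfsg.Spor.J1 := by
  rcases a with _ | a
  · show gl xC ∈ _; rw [gl_xC]; exact Subgroup.subset_closure (Set.mem_insert _ _)
  · show gl yC ∈ _; rw [gl_yC]; exact Subgroup.subset_closure (Set.mem_insert_of_mem _ rfl)

theorem gl_codeJ_mem : ∀ a < 4, gl (codeJ a) ∈ Cfsg.Spor.J1 := by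
  have hA : gl jA ∈ Cfsg.Spor.J1 := by
    rw [← ev_eq_gl genXY (w := [0, 1, 1, 0, 1, 0, 1, 0, 0, 0, 0, 1, 1, 0, 1, 0, 0, 1]) (by decide +kernel)]
    exact Setup.ev_mem _ _ _ fun a _ => gl_genXY_mem a
  have hB : gl jB ∈ Cfsg.Spor.J1 := by
    rw [← ev_eq_gl genXY (w := [1, 1, 0, 0, 0, 1, 1, 0, 0, 1, 1, 1, 1, 1, 0, 0, 0, 1, 1, 0, 0, 1, 1, 1]) (by decide +kernel)]
    exact Setup.ev_mem _ _ _ fun a _ => gl_genXY_mem a
  intro a ha
  interval_cases a
  · exact hA
  · show gl (trC jA) ∈ _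
    rw [← inv_eq_of_mul_eq_one_right (show gl jA * gl (trC jA) = 1 by
      rw [← JankoOne.gl_idC]
      exact JankoOne.gl_mul (by decide +kernel) (by decide +kernel) (by decide +kernel) (by decide +kernel))]
    exact inv_mem hA
  · exact hB
  · show gl (trC jB) ∈ _
    rw [← inv_eq_of_mul_eq_one_right (show gl jB * gl (trC jB) = 1 by
      rw [← JankoOne.gl_idC]
      exact JankoOne.gl_mul (by decide +kernel) (by decide +kernel) (by decide +kernel) (by decide +kernel))]
    exact inv_mem hB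

theorem exists_surjJ : ∃ π : setupJ.G →* ↥Cfsg.Spor.J1, Function.Surjective π := by
  have hall : setupJ.allRels.all (fun r => (setupJ.wl pLetters r).all (fun a => okC (codeJ a)) && okC idC &&
      cev codeJ (setupJ.wl pLetters r) == idC) = true := by decide +kernel
  obtain ⟨π, hπ⟩ := exists_hom_of_words (S := setupJ) (mkSetup_gens _) setupJ_letters
    (fun a => gl (codeJ a))
    (fun a ha => by
      have h := ev_eq_gl codeJ (w := [a, pLetters.invl a]) (T := idC) (by interval_cases a <;> decide +kernel)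
      simpa [ev, JankoOne.gl_idC] using h)
    (fun r hr => by rw [ev_eq_gl codeJ (List.all_eq_true.mp hall r hr), JankoOne.gl_idC])
  have hle : π.range ≤ Cfsg.Spor.J1 := by
    rw [MonoidHom.range_eq_map, ← Setup.closure_el (S := setupJ) (mkSetup_gens relsJ) setupJ_letters, MonoidHom.map_closure,
      Subgroup.closure_le]
    rintro _ ⟨_, ⟨a, rfl⟩, rfl⟩
    rw [SetLike.mem_coe]
    exact (hπ a a.2) ▸ gl_codeJ_mem a a.2
  refine ⟨π.codRestrict Cfsg.Spor.J1 fun x => hle ⟨x, rfl⟩, ?_⟩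
  have hge : Cfsg.Spor.J1 ≤ π.range := by
    have hev : ∀ w : List ℕ, (∀ a ∈ w, a < 4) → ev (fun a => gl (codeJ a)) w ∈ π.range := fun w hw =>
      Setup.ev_mem _ _ _ fun a ha => ⟨setupJ.el a, hπ a (hw a ha)⟩
    rw [Cfsg.Spor.J1, Subgroup.closure_le]
    rintro x (rfl | rfl)
    · rw [SetLike.mem_coe, ← gl_xC, ← ev_eq_gl codeJ (w := [2, 0, 2, 0, 2, 0, 2, 2, 0, 2, 2, 0, 2, 0, 2, 0, 2, 2, 0, 2, 2, 0, 2, 0, 2, 0, 2, 2, 0, 2, 2, 0, 2, 0, 2, 2, 0, 2, 0, 2, 2, 0, 2, 0, 2, 2, 0, 2, 0, 2]) (by decide +kernel)]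
      exact hev _ (by decide +kernel)
    · rw [SetLike.mem_coe, ← gl_yC, ← ev_eq_gl codeJ (w := [0, 2, 2, 0, 2, 2, 0, 2, 0, 2, 2, 0, 2, 0, 2, 2, 0, 2, 2, 0, 2, 0, 2, 2, 0, 2, 0, 2, 0, 2, 2, 0, 2, 0, 2, 0, 2, 2, 0, 2, 2, 0, 2, 0]) (by decide +kernel)]
      exact hev _ (by decide +kernel)
  rintro ⟨y, hy⟩
  obtain ⟨x, rfl⟩ := hge hy
  exact ⟨x, rfl⟩

end Cfsg.Agent.ONReal
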