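/-
M11 is a quotient of the presentation `setupM`.
Main result: `exists_surjM`.
-/
import Cfsg.Agent.Lib.ONReal.Pres
import Cfsg.Agent.Lib.MathieuEleven.Basic

set_option autoImplicit false

namespace Cfsg.Agent.ONReal

open Cfsg.Agent.CosetEnum
open Cfsg.Agent.CosetEnum.Data
open Cfsg.Agent.MathieuEleven (el el_one el_append chk eq_el ca cb eA eB closure_eA_eB)

/-- An involution of M11. -/
def da : ℕ := 0xbd8aa8a6615b8487d24c39aa41b600

/-- An element of order 4 of M11. -/
def db : ℕ := 0x2aa2f74aadb4d263d088b857060860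

/-- The inverse of `db`. -/
def dbi : ℕ := 0x3be2a74aa4a4e032d9a85b2e9088c0

/-- Codes of the letters. -/
def codeM : ℕ → ℕ
  | 0 => da
  | 1 => da
  | 2 => db
  | _ => dbi

theorem el_eq_ev : ∀ w : List ℕ, el (w.reverse.map codeM) = ev (fun a => MathieuEleven.mk (codeM a)) w
  | [] => by simp [el, ev]
  | a :: v => by
    rw [List.reverse_cons, List.map_append, el_append, el_eq_ev v, List.map_singleton, el_one]
    rfl

theorem exists_surjM : ∃ π : setupM.G →* ↥Cfsg.Spor.M11, Function.Surjective π := by
  have hw : ∀ w : List ℕ, chk (w.reverse.map codeM) [] = true → ev (fun a => MathieuEleven.mk (codeM a)) w = 1 :=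
    fun w h => by rw [← el_eq_ev, eq_el h]; simp [el]
  have hinv : ∀ a < 4, (fun a => MathieuEleven.mk (codeM a)) (pLetters.invl a) * (fun a => MathieuEleven.mk (codeM a)) a = 1 := by
    intro a ha
    have h := hw [a, pLetters.invl a] (by interval_cases a <;> decide +kernel)
    simpa [ev] using h
  have hall : setupM.allRels.all (fun r => chk ((setupM.wl pLetters r).reverse.map codeM) []) = true := by
    decide +kernel
  obtain ⟨π, hπ⟩ := exists_hom_of_words (S := setupM) (mkSetup_gens _) setupM_letters
    (fun a => MathieuEleven.mk (codeM a)) hinv (fun r hr => hw _ (List.all_eq_true.mp hall r hr))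
  refine ⟨π, MonoidHom.range_eq_top.mp ?_⟩
  have ha : MathieuEleven.mk da ∈ π.range := ⟨setupM.el 0, hπ 0 (by norm_num)⟩
  have hb : MathieuEleven.mk db ∈ π.range := ⟨setupM.el 2, hπ 2 (by norm_num)⟩
  have hmem : ∀ w : List ℕ, (w.all fun d => d == da || d == db) = true → el w ∈ π.range := fun w h => by
    refine list_prod_mem fun x hx => ?_
    obtain ⟨d, hd, rfl⟩ := List.mem_map.mp hx
    have := List.all_eq_true.mp h d hd
    simp only [Bool.or_eq_true, beq_iff_eq] at this
    rcases this with rfl | rfl <;> assumption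
  rw [eq_top_iff, ← closure_eA_eB, Subgroup.closure_le]
  rintro x (rfl | rfl)
  · rw [SetLike.mem_coe, eA, ← el_one,
      eq_el (v := [db, db, da, db, db, da, db, da, db, da, db, da, db, da, db, da]) (by decide +kernel)]
    exact hmem _ (by decide +kernel)
  · rw [SetLike.mem_coe, eB, ← el_one,
      eq_el (v := [da, db, db, db, da, db, db, da, db, da]) (by decide +kernel)]
    exact hmem _ (by decide +kernel)

end Cfsg.Agent.ONReal
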