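/-
The O'Nan group as a transitive permutation group of degree 122760, and the images of the presentations
`setupJ`, `setupM` in it.
Main results: `exists_realization`, `exists_homJ`, `exists_homM`.
-/
import Cfsg.Agent.S1699
import Cfsg.Agent.Lib.ONReal.QuotJ
import Cfsg.Agent.Lib.ONReal.QuotM
import Cfsg.Agent.Lib.ONReal.Faith
import Cfsg.Agent.Lib.MathieuEleven.Basic
import Cfsg.Agent.Lib.JankoOne.Simple

set_option autoImplicit false
set_option Elab.async false

namespace Cfsg.Agent.ONReal

open Cfsg.Agent.CosetEnum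
open Cfsg.Agent.CosetEnum.Data

/-- Images of the letters of `setupJ` in ON, as words in the letters of ON. -/
def subJ : ℕ → List ℕ
  | 0 => [4]
  | 1 => [4]
  | 2 => [5, 6, 4, 3, 4, 5, 1, 4, 5, 3, 7, 4, 2, 3, 4, 7, 3, 5, 4, 0, 5, 4, 3, 4, 6, 5]
  | _ => [5, 6, 4, 3, 4, 5, 1, 4, 5, 3, 7, 4, 3, 2, 4, 7, 3, 5, 4, 0, 5, 4, 3, 4, 6, 5]

/-- Images of the letters of `setupM` in ON, as words in the letters of ON. -/
def subM : ℕ → List ℕ
  | 0 => [5]
  | 1 => [5]
  | 2 => [0, 7, 3, 4, 3, 0, 5, 7, 4, 6, 1, 5, 4, 3, 2, 0, 5, 7, 3, 6, 1, 6, 3, 7, 5, 1, 2, 3, 4, 5, 0, 6, 4, 7, 5, 1, 3, 4, 3, 7, 1]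
  | _ => [0, 7, 3, 4, 3, 0, 5, 7, 4, 6, 1, 5, 4, 3, 2, 0, 5, 7, 3, 6, 0, 6, 3, 7, 5, 1, 2, 3, 4, 5, 0, 6, 4, 7, 5, 1, 3, 4, 3, 7, 1]

theorem invJ0 : baseFixed on122760 on122760_chain (subJ (pLetters.invl 0) ++ subJ 0) = true := by decide +kernel

theorem invJ2 : baseFixed on122760 on122760_chain (subJ (pLetters.invl 2) ++ subJ 2) = true := by decide +kernel

theorem invJ3 : baseFixed on122760 on122760_chain (subJ (pLetters.invl 3) ++ subJ 3) = true := by decide +kernel

theorem invM0 : baseFixed on122760 on122760_chain (subM (pLetters.invl 0) ++ subM 0) = true := by decide +kernel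

theorem invM2 : baseFixed on122760 on122760_chain (subM (pLetters.invl 2) ++ subM 2) = true := by decide +kernel

theorem invM3 : baseFixed on122760 on122760_chain (subM (pLetters.invl 3) ++ subM 3) = true := by decide +kernel

theorem wlJ : setupJ.allRels.map (setupJ.wl pLetters) = relsJ := by decide +kernel

theorem wlM : setupM.allRels.map (setupM.wl pLetters) = relsM := by decide +kernel

theorem relJ0 : baseFixed on122760 on122760_chain ((relsJ.getD 0 []).flatMap subJ) = true := by decide +kernel

theorem relJ1 : baseFixed on122760 on122760_chain ((relsJ.getD 1 []).flatMap subJ) = true := by decide +kernel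

theorem relJ2 : baseFixed on122760 on122760_chain ((relsJ.getD 2 []).flatMap subJ) = true := by decide +kernel

theorem relJ3 : baseFixed on122760 on122760_chain ((relsJ.getD 3 []).flatMap subJ) = true := by decide +kernel

theorem relJ4 : baseFixed on122760 on122760_chain ((relsJ.getD 4 []).flatMap subJ) = true := by decide +kernel

theorem relM0 : baseFixed on122760 on122760_chain ((relsM.getD 0 []).flatMap subM) = true := by decide +kernel

theorem relM1 : baseFixed on122760 on122760_chain ((relsM.getD 1 []).flatMap subM) = true := by decide +kernel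

theorem relM2 : baseFixed on122760 on122760_chain ((relsM.getD 2 []).flatMap subM) = true := by decide +kernel

theorem relM3 : baseFixed on122760 on122760_chain ((relsM.getD 3 []).flatMap subM) = true := by decide +kernel

theorem relM4 : baseFixed on122760 on122760_chain ((relsM.getD 4 []).flatMap subM) = true := by decide +kernel

theorem relM5 : baseFixed on122760 on122760_chain ((relsM.getD 5 []).flatMap subM) = true := by decide +kernel

theorem closed_of_getD {l : List (List ℕ)} {sub : ℕ → List ℕ}
    (h : ∀ i < l.length, baseFixed on122760 on122760_chain ((l.getD i []).flatMap sub) = true) :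
    ∀ w ∈ l, baseFixed on122760 on122760_chain (w.flatMap sub) = true := fun w hw => by
  obtain ⟨i, hi, rfl⟩ := List.getElem_of_mem hw
  rw [← List.getD_eq_getElem l [] hi]
  exact h i hi

/-- The permutation representation of ON on 122760 points. -/
noncomputable def rho : onSetup.G →* Equiv.Perm (Fin on122760.n) :=
  Setup.hom onSetup_gens Cfsg.Agent.S1692.table.letters Cfsg.Agent.S1692.table.perm Cfsg.Agent.S1692.table.rels

theorem rho_injective : Function.Injective rho := by
  have T := Cfsg.Agent.S1692.table
  have hch := on122760_chain_check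
  simp only [Bool.and_eq_true] at hch
  have hub := Setup.card_top (Setup.Table.index T) (by decide +kernel)
    (Setup.bound_closure onSetup_gens on_letters on_bound0 (hs := Cfsg.Agent.S1692.hgens) (by decide +kernel))
  rw [show on122760.n * 3753792 = 460815505920 by decide +kernel] at hub
  exact (Setup.card_eq_of_bounds T.gens T.letters T.perm T.rels on122760_chain hch.1 hub (beq_iff.mp hch.2)).2

theorem card_range_le : Nat.card rho.range ≤ Setup.chainSize on122760_chain := by
  rw [← Nat.card_congr (MonoidHom.ofInjective rho_injective).toEquiv,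
    show Nat.card onSetup.G = 460815505920 from Cfsg.Agent.S1699.main.2,
    Nat.eq_of_beq_eq_true on122760_chain_size]

theorem ev_eq_one {w : List ℕ} (h : baseFixed on122760 on122760_chain w = true) :
    Data.ev (Setup.perm on122760 Cfsg.Agent.S1692.table.perm) w = 1 :=
  ev_eq_one_of_base onSetup_gens Cfsg.Agent.S1692.table.letters _ Cfsg.Agent.S1692.table.rels on122760_chain
    on122760_chain_ok card_range_le (by rw [Nat.eq_of_beq_eq_true on122760_chain_size]; norm_num) h

theorem range_pretransitive : MulAction.IsPretransitive rho.range (Fin on122760.n) := by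
  have T := Cfsg.Agent.S1692.table
  obtain ⟨ext, hsrc, hext⟩ := T.src
  obtain ⟨e, _, he⟩ := Setup.exists_equiv onSetup_gens T.letters T.check T.rels T.perm T.subs hsrc
    (onSetup.closureOf Cfsg.Agent.S1692.hgens) rfl hext
  refine ⟨fun i j => ?_⟩
  obtain ⟨g, hg⟩ := MulAction.exists_smul_eq onSetup.G (e i) (e j)
  refine ⟨⟨rho g, g, rfl⟩, e.injective ?_⟩
  rw [← hg]
  exact (he g i).symm

theorem exists_hom_range {S : Setup Gen} (hgens : ∀ x, x ∈ S.gens) (hl : S.lettersOK pLetters = true)
    (sub : ℕ → List ℕ) (hsub : ∀ a < 4, ∀ x ∈ sub a, x < on122760.k)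
    (hinv : ∀ a < 4, baseFixed on122760 on122760_chain (sub (pLetters.invl a) ++ sub a) = true)
    (hinv' : ∀ a < 4, pLetters.invl a < 4 ∧ pLetters.invl (pLetters.invl a) = a)
    (hrel : ∀ r ∈ S.allRels, baseFixed on122760 on122760_chain ((S.wl pLetters r).flatMap sub) = true)
    {i : ℕ} (hi : i < on122760.n) (hmove : Nat.beq (on122760.tw (sub 0) i) i = false) :
    ∃ f : S.G →* rho.range, f (S.el 0) ≠ 1 := by
  have hp := Cfsg.Agent.S1692.table.perm
  obtain ⟨h1, h2⟩ := Setup.letters_spec hgens hl
  obtain ⟨f, hf⟩ := exists_hom_of_words hgens hl (fun a => ev (Setup.perm on122760 hp) (sub a))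
    (fun a ha => by
      obtain ⟨ha', haa⟩ := hinv' a ha
      have h := ev_eq_one (hinv _ ha')
      rw [haa, ev_append] at h
      exact h)
    (fun r hr => by rw [← ev_flatMap]; exact ev_eq_one (hrel r hr))
  have hmem : ∀ x, f x ∈ rho.range := by
    intro x
    have hx : x ∈ Subgroup.closure (Set.range fun a : Fin pLetters.k => S.el a) := by
      rw [Setup.closure_el hgens hl]; trivial
    induction hx using Subgroup.closure_induction with
    | mem y hy =>
      obtain ⟨a, rfl⟩ := hy
      rw [hf a a.2]
      exact Setup.ev_perm_mem_range onSetup_gens _ hp _ _ (hsub a a.2)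
    | one => rw [map_one]; exact one_mem _
    | mul y z _ _ hy hz => rw [map_mul]; exact mul_mem hy hz
    | inv y _ hy => rw [map_inv]; exact inv_mem hy
  refine ⟨f.codRestrict rho.range hmem, fun h => ?_⟩
  have h' : ((f (S.el 0) ⟨i, hi⟩ : Fin on122760.n) : ℕ) = i := by
    rw [show f (S.el 0) = 1 from congrArg Subtype.val h]; rfl
  rw [hf 0 (by norm_num), Setup.ev_perm hp _ (hsub 0 (by norm_num))] at h'
  rw [h'] at hmove
  simp at hmove

theorem exists_homJ : ∃ f : setupJ.G →* rho.range, f (setupJ.el 0) ≠ 1 := by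
  refine exists_hom_range (mkSetup_gens _) setupJ_letters subJ (by decide +kernel) ?_ (by decide +kernel) ?_
    (i := 1) (by decide +kernel) (by decide +kernel)
  · intro a ha
    interval_cases a
    exacts [invJ0, invJ0, invJ2, invJ3]
  · intro r hr
    refine closed_of_getD (fun j hj => ?_) _ (wlJ ▸ List.mem_map.mpr ⟨r, hr, rfl⟩)
    have hj' : j < 5 := hj
    interval_cases j
    exacts [relJ0, relJ1, relJ2, relJ3, relJ4]

theorem exists_homM : ∃ f : setupM.G →* rho.range, f (setupM.el 0) ≠ 1 := by
  refine exists_hom_range (mkSetup_gens _) setupM_letters subM (by decide +kernel) ?_ (by decide +kernel) ?_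
    (i := 1) (by decide +kernel) (by decide +kernel)
  · intro a ha
    interval_cases a
    exacts [invM0, invM0, invM2, invM3]
  · intro r hr
    refine closed_of_getD (fun j hj => ?_) _ (wlM ▸ List.mem_map.mpr ⟨r, hr, rfl⟩)
    have hj' : j < 6 := hj
    interval_cases j
    exacts [relM0, relM1, relM2, relM3, relM4, relM5]

/-- ON as a permutation group, for any name of the degree. -/
theorem exists_realization {n : ℕ} (hn : on122760.n = n) (i0 : Fin n) :
    ∃ H : Subgroup (Equiv.Perm (Fin n)), Cfsg.IsON H ∧ MulAction.IsPretransitive H (Fin n) ∧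
      Nat.card (MulAction.stabilizer H i0) * n = 460815505920 ∧
      (∃ K : Subgroup H, Cfsg.IsJ1 K) ∧ (∃ K : Subgroup H, Cfsg.IsM11 K) := by
  subst hn
  have hmain := Cfsg.Agent.S1699.main
  haveI := hmain.1
  have e := MonoidHom.ofInjective rho_injective
  have hcard : Nat.card rho.range = 460815505920 := by rw [← Nat.card_congr e.toEquiv, hmain.2]
  haveI := range_pretransitive
  refine ⟨rho.range, ⟨e.symm.isSimpleGroup, hcard⟩, range_pretransitive, ?_, ?_, ?_⟩
  · rw [← hcard]
    have horb : MulAction.orbit rho.range i0 = Set.univ := MulAction.orbit_eq_univ _ i0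
    have := Nat.card_congr (MulAction.orbitProdStabilizerEquivGroup rho.range i0)
    rw [Nat.card_prod, horb, Nat.card_univ, Nat.card_fin] at this
    rw [← this, mul_comm]
  · obtain ⟨f, hf⟩ := exists_homJ
    obtain ⟨π, hπ⟩ := exists_surjJ
    haveI := Cfsg.Agent.JankoOne.isSimpleGroup_j1
    exact ⟨f.range, isSimple_range_of_surj cardJ_le Cfsg.Agent.JankoOne.natCard_j1 π hπ f _ hf⟩
  · obtain ⟨f, hf⟩ := exists_homM
    obtain ⟨π, hπ⟩ := exists_surjM
    haveI := Cfsg.Agent.MathieuEleven.isSimpleGroup_m11
    exact ⟨f.range, isSimple_range_of_surj cardM_le Cfsg.Agent.MathieuEleven.natCard_m11 π hπ f _ hf⟩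

end Cfsg.Agent.ONReal
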